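import Groth.Agent.Lib.RLpsi8.Sigma
import Groth.Agent.Lib.RLpsi8.PushAlg
import Groth.Agent.Lib.QCAlgFT9.Gen
import Groth.Agent.Lib.QCoh.Filtration
import Groth.Agent.Lib.Ample.QuasiProj
import Groth.Agent.Lib.RelProjK.ProjProps
import Mathlib.AlgebraicGeometry.Morphisms.SchemeTheoreticallyDominant

/-!
# Bijectivity of a morphism of algebras from global sections; scheme-theoretic dominance of `r_{L,σ}`
-/

set_option autoImplicit false
set_option backward.isDefEq.respectTransparency false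
set_option maxHeartbeats 800000
set_option linter.style.haveILetI false

universe u

open CategoryTheory CategoryTheory.Limits AlgebraicGeometry TopologicalSpace Opposite HomogeneousLocalization
open GrothLib.RelProjK (dg rs em mem_opensRange_em)

noncomputable section

namespace GrothLib.SchDom20

open GrothLib.RLpsi8

variable {Y X : Scheme.{u}} {f : X ⟶ Y} {𝒜 : RelProj.QCGrAlg Y} {ℬ : RelProj.QCGrAlg X}

/-- A morphism of quasi-coherent algebras over an affine base, bijective on global sections, is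
bijective on the sections over every open. -/
theorem bijective_app_of_top [QuasiCompact f] [QuasiSeparated f] (hY : IsAffineOpen (⊤ : Y.Opens))
    (u : RelProj.QGrHom f 𝒜 ℬ) (hu : Function.Bijective (u.app ⊤).hom) (U : Y.Opens) :
    Function.Bijective (u.app U).hom := by
  let ψ : 𝒜.toQCAlg ⟶ pushAlg f ℬ :=
    ⟨{ app := fun V => u.app V.unop
       naturality := fun V W i => (u.naturality i.unop.le).symm },
      by ext V : 2; exact congrArg CommRingCat.Hom.hom (u.str_app V)⟩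
  haveI := QCAlgFT9.isQuasicoherent_toModule 𝒜.toQCAlg
  haveI := QCAlgFT9.isQuasicoherent_toModule (pushAlg f ℬ)
  haveI : IsIso (RelSpec.QCAlg.Hom.toModuleMap ψ) :=
    QCoh.isIso_of_bijective_on_cover (RelSpec.QCAlg.Hom.toModuleMap ψ) (fun _ : PUnit.{u + 1} => ⊤)
      (by rw [IsOpenCover]; exact iSup_const) (fun _ => hY) fun _ => hu
  exact (ConcreteCategory.bijective_of_isIso
    ((Scheme.Modules.toPresheaf Y).map (RelSpec.QCAlg.Hom.toModuleMap ψ) |>.app (op U)) : _)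

variable {P PL : Scheme.{u}} {L : X.Modules} {j : L ⟶ ℬ.toModule} (hL : PicF.IsInvertible L) (hLq : Coh.IsQCoh L)
  (hj : RelProj.IsGrSymAlg L ℬ j) (u : RelProj.QGrHom f 𝒜 ℬ)
  {p : P ⟶ Y} {chart : ∀ (U : Y.Opens) (hU : IsAffineOpen U), (((p ⁻¹ᵁ U : P.Opens) : Scheme.{u}) ≅ Proj (𝒜.deg U hU))}
  {pL : PL ⟶ X}
  {chartL : ∀ (U : X.Opens) (hU : IsAffineOpen U), (((pL ⁻¹ᵁ U : PL.Opens) : Scheme.{u}) ≅ Proj (ℬ.deg U hU))}
  (hP : RelProj.IsRelProj 𝒜 p chart) (hPL : RelProj.IsRelProj ℬ pL chartL)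
  (htop : RelProj.domQ u pL chartL = ⊤) {g : X ⟶ P}
  (hg : RelProj.IsProjQMapOn u p chart pL chartL (RelProj.domQ u pL chartL) ((RelProj.domQ u pL chartL).ι ≫ pL ≫ g))

include hL hLq hj hP hPL hg htop in
/-- Injectivity on the sections over a standard open. -/
theorem app_injective_of_isInj {U : Y.AffineZariskiSite} {n : ℕ} (hn : 0 < n) {s : 𝒜.presheaf.obj (op U.1)}
    (hs : s ∈ dg 𝒜 U n) (hI : IsInj u U n s) :
    Function.Injective (g.app (sEmb p chart U hn hs).opensRange).hom := by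
  let σ := sEmb p chart U hn hs
  let D : P.Opens := σ.opensRange
  have hσ : (⊤ : (Spec _).Opens) ≤ σ ⁻¹ᵁ D := σ.preimage_opensRange.ge
  let e : Γ(P, D) ⟶ CommRingCat.of (Away (dg 𝒜 U) s) := σ.appLE D ⊤ hσ ≫ (Scheme.ΓSpecIso _).hom
  haveI : IsIso (σ.appLE D ⊤ hσ) := by
    haveI := σ.isIso_app D le_rfl
    rw [Scheme.Hom.appLE, show homOfLE hσ = eqToHom (σ.preimage_opensRange).symm from Subsingleton.elim _ _]
    infer_instance
  have he : Function.Injective e.hom := (ConcreteCategory.bijective_of_isIso e).1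
  rw [injective_iff_map_eq_zero]
  intro x hx
  refine he ?_
  rw [map_zero]
  obtain ⟨m, a, ha, hz⟩ := Away.mk_surjective (dg 𝒜 U) hs (e.hom x)
  have ha' : a * s ∈ dg 𝒜 U ((m + 1) • n) := by rw [succ_nsmul]; exact SetLike.mul_mem_graded ha hs
  have ha'' : a * s ∈ dg 𝒜 U ((m + 1) * n) := by simpa using ha'
  rw [← hz, ← away_mk_eq_succ hn hs ha ha', away_mk_eq_zero_iff hs ha']
  suffices h0 : (u.appLE U.1 (XS u U n s) (XS_le u U n s)).hom (a * s) = 0 by
    obtain ⟨k, -, hk⟩ := hI (m + 1) m.succ_pos _ ha'' h0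
    exact ⟨k, hk⟩
  refine eq_of_triv hL hLq hj fun t htW => ?_
  obtain ⟨θ, hθ⟩ := exists_isTheta hL hLq hj u hP hPL hg htop U hn hs t.V.2 htW
  have h1 : θ (e.hom x) = 0 := by
    have hW : (⊤ : (Spec Γ(X, t.V.1)).Opens) ≤ (t.V.2.fromSpec ≫ g) ⁻¹ᵁ D := by
      rintro y -
      have : t.V.2.fromSpec y ∈ g ⁻¹ᵁ D := by
        rw [preimage_sEmb hL hLq hj u hP hPL hg htop U hn hs]
        exact htW (t.V.2.range_fromSpec ▸ ⟨y, rfl⟩ : t.V.2.fromSpec y ∈ (t.V.1 : Set X))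
      exact this
    have e1 : (t.V.2.fromSpec ≫ g).appLE D ⊤ hW =
        g.app D ≫ t.V.2.fromSpec.appLE (g ⁻¹ᵁ D) ⊤ hW := by
      rw [Scheme.Hom.app_eq_appLE, Scheme.Hom.appLE_comp_appLE]
    have hW' : (⊤ : (Spec Γ(X, t.V.1)).Opens) ≤ (Spec.map (CommRingCat.ofHom θ) ≫ σ) ⁻¹ᵁ D :=
      fun y _ => ⟨Spec.map (CommRingCat.ofHom θ) y, rfl⟩
    have e2 : (Spec.map (CommRingCat.ofHom θ) ≫ σ).appLE D ⊤ hW' ≫ (Scheme.ΓSpecIso _).hom =
        e ≫ CommRingCat.ofHom θ := by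
      rw [← Scheme.Hom.appLE_comp_appLE _ _ D ⊤ ⊤ hσ le_top, Category.assoc, Category.assoc,
        ← Scheme.ΓSpecIso_naturality]
      congr 2
    have e3 : (t.V.2.fromSpec ≫ g).appLE D ⊤ hW = (Spec.map (CommRingCat.ofHom θ) ≫ σ).appLE D ⊤ hW' := by
      congr 1
    have e4 := ConcreteCategory.congr_hom e2 x
    simp only [← e3, e1, CommRingCat.comp_apply] at e4
    rw [hx, map_zero, map_zero] at e4
    exact e4.symm
  rw [← hz, ← away_mk_eq_succ hn hs ha ha'] at h1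
  have h2 := (isTheta_mk_iff hL hLq hj u hg hθ htW (htW.trans (XS_le u U n s)) ha'' 0 hPL).mpr h1
  rw [map_zero, zero_mul] at h2
  rw [map_zero]
  refine Eq.trans ?_ h2.symm
  exact ConcreteCategory.congr_hom (u.toQHom.appLE_map (XS_le u U n s) htW) (a * s)

include hL hLq hj hP hPL hg htop in
/-- Scheme-theoretic dominance, tested on the homogeneous sections over the whole affine base. -/
theorem isSchemeTheoreticallyDominant_of_isInj [QuasiCompact g] (hY : IsAffineOpen (⊤ : Y.Opens))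
    (hI : ∀ (n : ℕ), 0 < n → ∀ s ∈ dg 𝒜 ⟨⊤, hY⟩ n, IsInj u ⟨⊤, hY⟩ n s) : IsSchemeTheoreticallyDominant g := by
  let U : Y.AffineZariskiSite := ⟨⊤, hY⟩
  let ι := Σ' (n : ℕ) (_ : 0 < n) (s : 𝒜.presheaf.obj (op U.1)), s ∈ dg 𝒜 U n
  rw [isSchemeTheoreticallyDominant_iff]
  refine Scheme.IdealSheafData.ext_of_iSup_eq_top
    (fun i : ι => ⟨(sEmb p chart U i.2.1 i.2.2.2).opensRange, isAffineOpen_opensRange _⟩) ?_ fun i => ?_
  · refine top_le_iff.mp fun y _ => ?_
    obtain ⟨z, rfl⟩ := (mem_opensRange_em (chart := chart) U).mpr (Opens.mem_top (p y))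
    obtain ⟨n, s, hn, hs, hzs, -⟩ := exists_pos_basicOpen_le (O := ⊤) (y := z) (Opens.mem_top z)
    refine Opens.mem_iSup.mpr ⟨⟨n, hn, s, hs⟩, ?_⟩
    show em p chart U z ∈ (sEmb p chart U hn hs).opensRange
    rw [opensRange_sEmb]
    exact ⟨z, hzs, rfl⟩
  · rw [Scheme.Hom.ker_apply, Scheme.IdealSheafData.ideal_bot, Pi.bot_apply, ← RingHom.injective_iff_ker_eq_bot]
    exact app_injective_of_isInj hL hLq hj u hP hPL htop hg i.2.1 i.2.2.2 (hI i.1 i.2.1 i.2.2.1 i.2.2.2)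

end GrothLib.SchDom20
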